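import Cfsg.Agent.Omega.NOThreeL.RLow.SitP
import Cfsg.Agent.Omega.NOThreeL.RLow.RA
import Cfsg.Agent.Omega.NOThreeL.RLow.SymR

/-!
# NO-3L, box R: parts RA, RB of THEOREM R-LOW for `SitP`

After the refactoring of `RLow/Defs.lean` (no `LV`, no `good`, points of the bad line only) `SitR` and `SitP` have the
same content: `SitP.toR`.

* `SitP.off` : **RA**, `V_P` has an offender in `P`;
* `SitP.rb` : **RB**, `V_P` is not of symmetric type.
-/

set_option autoImplicit false

namespace Cfsg.Agent.Omega.NOThreeL.RLow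

open Subgroup Cfsg Cfsg.Agent.ZN
open Cfsg.Agent.Omega.MinPar Cfsg.Agent.Omega.Frame Cfsg.Agent.Omega.FrameNOFF
open Cfsg.Agent.Omega.FrameFF (cv)
open Cfsg.Agent.Omega.FFThm (OffM NatKM SymKM)
open scoped Pointwise

universe u

variable {G : Type u} [Group G] [Finite G] {S : Sylow 2 G} {V F B P : Subgroup G}

/-- `SitP` is `SitR`. -/
theorem SitP.toR (s : SitP S V F B P) : SitR S V F B P :=
  ⟨s.ctx, s.D, s.notA, s.flat, s.VS, s.hP, s.UV, s.bad, s.FB, s.BW, s.XB, s.comm, s.sq, s.BS, s.CB, s.ZB, s.pt, s.card⟩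

/-- **RA** -/
theorem SitP.off (s : SitP S V F B P) : ∃ A ≤ P, OffM (zl (S : Subgroup G) P) A := ra G S V F B P s.toR

/-- **RB** -/
theorem SitP.rb (s : SitP S V F B P) (k m : ℕ) (hk : 0 < k) (hm : 2 ≤ m)
    (M : SymKM (S : Subgroup G) P (zl (S : Subgroup G) P) (cv (S : Subgroup G) P) k m) : False :=
  SymR.rb G S V F B P s.toR k m hk hm M

end Cfsg.Agent.Omega.NOThreeL.RLow
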